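import Mathlib
import Cfsg.Prelude.Def_Local

/-!
Subgroups of a symmetric group through their 3-cycles.
-/

set_option autoImplicit false

namespace CfsgLib.ThreeCycles

open Equiv

variable {α : Type*} [Fintype α] [DecidableEq α]

/-- The 3-cycle `(a b c)`. -/
def cyc (a b c : α) : Perm α := swap a b * swap b c

theorem cyc_apply_left {a b c : α} (hab : a ≠ b) (hac : a ≠ c) : cyc a b c a = b := by
  simp [cyc, swap_apply_of_ne_of_ne hab hac]

theorem cyc_apply_mid {a b c : α} (hac : a ≠ c) (hbc : b ≠ c) : cyc a b c b = c := by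
  simp [cyc, swap_apply_of_ne_of_ne hac.symm hbc.symm]

theorem cyc_apply_right {a b c : α} : cyc a b c c = a := by
  simp [cyc]

theorem cyc_apply_other {a b c z : α} (ha : z ≠ a) (hb : z ≠ b) (hc : z ≠ c) :
    cyc a b c z = z := by
  simp [cyc, swap_apply_of_ne_of_ne hb hc, swap_apply_of_ne_of_ne ha hb]

theorem cyc_rot {a b c : α} (hab : a ≠ b) (hac : a ≠ c) (hbc : b ≠ c) : cyc b c a = cyc a b c := by
  ext z
  by_cases ha : z = a
  · subst ha; rw [cyc_apply_right, cyc_apply_left hab hac]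
  by_cases hb : z = b
  · subst hb; rw [cyc_apply_left hbc hab.symm, cyc_apply_mid hac hbc]
  by_cases hc : z = c
  · subst hc; rw [cyc_apply_mid hab.symm hac.symm, cyc_apply_right]
  rw [cyc_apply_other hb hc ha, cyc_apply_other ha hb hc]

theorem inv_cyc (a b c : α) : (cyc a b c)⁻¹ = cyc c b a := by
  simp [cyc, swap_comm c b, swap_comm b a]

theorem conj_cyc (g : Perm α) (a b c : α) : g * cyc a b c * g⁻¹ = cyc (g a) (g b) (g c) := by
  rw [cyc, cyc, swap_apply_apply, swap_apply_apply]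
  group

theorem support_cyc_subset (a b c : α) : (cyc a b c).support ⊆ {a, b, c} := by
  intro z hz
  rw [Perm.mem_support] at hz
  simp only [Finset.mem_insert, Finset.mem_singleton]
  by_contra hcon
  push Not at hcon
  exact hz (cyc_apply_other hcon.1 hcon.2.1 hcon.2.2)

theorem exists_cyc {σ : Perm α} (h : σ.IsThreeCycle) :
    ∃ a b c, a ≠ b ∧ a ≠ c ∧ b ≠ c ∧ σ = cyc a b c ∧ σ.support = {a, b, c} := by
  obtain ⟨a, b, c, hab, hac, hbc, hs⟩ := Finset.card_eq_three.1 h.card_support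
  have hmem : ∀ z ∈ σ.support, z = a ∨ z = b ∨ z = c := fun z hz => by simpa [hs] using hz
  have hmove : ∀ z ∈ ({a, b, c} : Finset α), σ z ∈ σ.support ∧ σ z ≠ z := fun z hz => by
    rw [← hs] at hz
    exact ⟨Perm.apply_mem_support.2 hz, Perm.mem_support.1 hz⟩
  obtain ⟨a1, a2⟩ := hmove a (by simp)
  obtain ⟨b1, b2⟩ := hmove b (by simp)
  obtain ⟨c1, c2⟩ := hmove c (by simp)
  have hout : ∀ z, z ≠ a → z ≠ b → z ≠ c → σ z = z := fun z h1 h2 h3 => by
    by_contra hz
    rcases hmem z (Perm.mem_support.2 hz) with e | e | e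
    exacts [h1 e, h2 e, h3 e]
  have key : ∀ {p q r : α}, σ p = q → σ q = r → σ r = p → p ≠ q → p ≠ r → q ≠ r →
      (∀ z, z ≠ p → z ≠ q → z ≠ r → σ z = z) → σ = cyc p q r := by
    intro p q r e1 e2 e3 h1 h2 h3 ho
    ext z
    by_cases hp : z = p
    · subst hp; rw [e1, cyc_apply_left h1 h2]
    by_cases hq : z = q
    · subst hq; rw [e2, cyc_apply_mid h2 h3]
    by_cases hr : z = r
    · subst hr; rw [e3, cyc_apply_right]
    rw [ho z hp hq hr, cyc_apply_other hp hq hr]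
  rcases hmem _ a1 with e | e | e
  · exact absurd e a2
  · have e3 : σ c = a := by
      rcases hmem _ c1 with e' | e' | e'
      · exact e'
      · exact absurd (σ.injective (e.trans e'.symm)) hac
      · exact absurd e' c2
    have e2 : σ b = c := by
      rcases hmem _ b1 with e' | e' | e'
      · exact absurd (σ.injective (e3.trans e'.symm)) hbc.symm
      · exact absurd e' b2
      · exact e'
    exact ⟨a, b, c, hab, hac, hbc, key e e2 e3 hab hac hbc hout, hs⟩
  · have e3 : σ b = a := by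
      rcases hmem _ b1 with e' | e' | e'
      · exact e'
      · exact absurd e' b2
      · exact absurd (σ.injective (e.trans e'.symm)) hab
    have e2 : σ c = b := by
      rcases hmem _ c1 with e' | e' | e'
      · exact absurd (σ.injective (e3.trans e'.symm)) hbc
      · exact e'
      · exact absurd e' c2
    refine ⟨a, c, b, hac, hab, hbc.symm, key e e2 e3 hac hab hbc.symm
      (fun z h1 h2 h3 => hout z h1 h3 h2), ?_⟩
    rw [hs]; ext z; simp; tauto

theorem isThreeCycle_cyc {a b c : α} (hab : a ≠ b) (hac : a ≠ c) (hbc : b ≠ c) :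
    (cyc a b c).IsThreeCycle := by
  rw [← card_support_eq_three_iff, Finset.card_eq_three]
  refine ⟨a, b, c, hab, hac, hbc, ?_⟩
  refine Finset.Subset.antisymm (support_cyc_subset a b c) fun z hz => ?_
  simp only [Finset.mem_insert, Finset.mem_singleton] at hz
  rw [Perm.mem_support]
  rcases hz with rfl | rfl | rfl
  · rw [cyc_apply_left hab hac]; exact hab.symm
  · rw [cyc_apply_mid hac hbc]; exact hbc.symm
  · rw [cyc_apply_right]; exact hac

/-- All 3-cycles inside `Δ` lie in `H`. -/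
def Full (H : Subgroup (Perm α)) (Δ : Finset α) : Prop :=
  3 ≤ Δ.card ∧ ∀ a ∈ Δ, ∀ b ∈ Δ, ∀ c ∈ Δ, a ≠ b → a ≠ c → b ≠ c → cyc a b c ∈ H

variable {H : Subgroup (Perm α)} {Δ : Finset α}

theorem Full.of_threeCycle {σ : Perm α} (h : σ.IsThreeCycle) (hσ : σ ∈ H) : Full H σ.support := by
  obtain ⟨p, q, r, hpq, hpr, hqr, rfl, hs⟩ := exists_cyc h
  refine ⟨le_of_eq h.card_support.symm, fun a ha b hb c hc hab hac hbc => ?_⟩
  rw [hs] at ha hb hc
  simp only [Finset.mem_insert, Finset.mem_singleton] at ha hb hc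
  have e1 : cyc q r p ∈ H := (cyc_rot hpq hpr hqr).symm ▸ hσ
  have e2 : cyc r p q ∈ H := by rw [cyc_rot hqr hpq.symm hpr.symm]; exact e1
  rcases ha with rfl | rfl | rfl <;> rcases hb with rfl | rfl | rfl <;>
    rcases hc with rfl | rfl | rfl <;> first
    | exact absurd rfl hab
    | exact absurd rfl hac
    | exact absurd rfl hbc
    | exact hσ
    | exact e1
    | exact e2
    | (rw [← inv_cyc]; first
        | exact H.inv_mem hσ
        | exact H.inv_mem e1
        | exact H.inv_mem e2)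

theorem Full.insert {z : α} (h : Full H Δ) (hz : z ∉ Δ)
    (hc : ∃ x ∈ Δ, ∃ y ∈ Δ, x ≠ y ∧ cyc x y z ∈ H) : Full H (insert z Δ) := by
  obtain ⟨x₀, hx₀, y₀, hy₀, hne₀, hc₀⟩ := hc
  have hne : ∀ {u}, u ∈ Δ → u ≠ z := fun hu e => hz (e ▸ hu)
  have step : ∀ x ∈ Δ, ∀ y ∈ Δ, x ≠ y → cyc x y z ∈ H →
      ∀ w ∈ Δ, w ≠ x → w ≠ y → cyc y w z ∈ H := by
    intro x hx y hy hxy hxyz w hw hwx hwy
    have hg := h.2 x hx y hy w hw hxy hwx.symm hwy.symm
    have h1 := H.mul_mem (H.mul_mem hg hxyz) (H.inv_mem hg)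
    rwa [conj_cyc, cyc_apply_left hxy hwx.symm, cyc_apply_mid hwx.symm hwy.symm,
      cyc_apply_other (hne hx).symm (hne hy).symm (hne hw).symm] at h1
  have symm : ∀ x ∈ Δ, ∀ y ∈ Δ, x ≠ y → cyc x y z ∈ H → cyc y x z ∈ H := by
    intro x hx y hy hxy hxyz
    have h1 := H.inv_mem hxyz
    rwa [inv_cyc, ← cyc_rot (hne hy).symm (hne hx).symm hxy.symm] at h1
  -- every element of `Δ` is a first entry
  have first : ∀ u ∈ Δ, ∃ v ∈ Δ, u ≠ v ∧ cyc u v z ∈ H := by
    intro u hu
    by_cases e1 : u = x₀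
    · subst e1; exact ⟨y₀, hy₀, hne₀, hc₀⟩
    by_cases e2 : u = y₀
    · subst e2; exact ⟨x₀, hx₀, hne₀.symm, symm _ hx₀ _ hy₀ hne₀ hc₀⟩
    exact ⟨y₀, hy₀, e2, symm _ hy₀ _ hu (Ne.symm e2) (step _ hx₀ _ hy₀ hne₀ hc₀ u hu e1 e2)⟩
  have all : ∀ x ∈ Δ, ∀ y ∈ Δ, x ≠ y → cyc x y z ∈ H := by
    intro x hx y hy hxy
    obtain ⟨v, hv, hxv, hvc⟩ := first x hx
    by_cases e : y = v
    · subst e; exact hvc
    exact step _ hv _ hx hxv.symm (symm _ hx _ hv hxv hvc) y hy e hxy.symm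
  refine ⟨h.1.trans (Finset.card_le_card (Finset.subset_insert _ _)),
    fun a ha b hb c hc hab hac hbc => ?_⟩
  simp only [Finset.mem_insert] at ha hb hc
  rcases ha with rfl | ha
  · have hb' := hb.resolve_left hab.symm
    have hc' := hc.resolve_left hac.symm
    rw [← cyc_rot hab hac hbc]
    exact all b hb' c hc' hbc
  rcases hb with rfl | hb
  · have hc' := hc.resolve_left hbc.symm
    rw [cyc_rot hac.symm hbc.symm hab]
    exact all c hc' a ha hac.symm
  rcases hc with rfl | hc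
  · exact all a ha b hb hab
  · exact h.2 a ha b hb c hc hab hac hbc

/-- A set containing the support of `σ` that cannot be enlarged. -/
theorem exists_max {σ : Perm α} (h : σ.IsThreeCycle) (hσ : σ ∈ H) :
    ∃ Δ, Full H Δ ∧ σ.support ⊆ Δ ∧
      ∀ τ : Perm α, τ.IsThreeCycle → τ ∈ H → ¬ Disjoint τ.support Δ → τ.support ⊆ Δ := by
  classical
  obtain ⟨Δ, hΔ, hmax⟩ := Finset.exists_max_image
    ((Finset.univ : Finset (Finset α)).filter fun Δ => Full H Δ ∧ σ.support ⊆ Δ) Finset.card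
    ⟨σ.support, Finset.mem_filter.2 ⟨Finset.mem_univ _, Full.of_threeCycle h hσ, subset_rfl⟩⟩
  simp only [Finset.mem_filter, Finset.mem_univ, true_and] at hΔ hmax
  obtain ⟨hF, hsub⟩ := hΔ
  refine ⟨Δ, hF, hsub, fun τ hτ hτH hmeet => ?_⟩
  have hno : ∀ z, z ∉ Δ → ∀ x ∈ Δ, ∀ y ∈ Δ, x ≠ y → cyc x y z ∉ H := fun z hz x hx y hy hxy hh => by
    have h1 := hmax _ ⟨hF.insert hz ⟨x, hx, y, hy, hxy, hh⟩, hsub.trans (Finset.subset_insert _ _)⟩
    rw [Finset.card_insert_of_notMem hz] at h1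
    omega
  by_contra hns
  obtain ⟨u, hu, hu'⟩ := Finset.not_disjoint_iff.1 hmeet
  obtain ⟨a, b, c, hab, hac, hbc, rfl, hs⟩ := exists_cyc hτ
  -- rotate so that `a` is inside and `b` is outside
  have key : ∀ a b c, a ≠ b → a ≠ c → b ≠ c → cyc a b c ∈ H → a ∈ Δ → b ∉ Δ → False := by
    intro a b c hab hac hbc hmem ha hb
    by_cases hc : c ∈ Δ
    · refine hno b hb c hc a ha hac.symm ?_
      rwa [cyc_rot hbc hab.symm hac.symm, cyc_rot hab hac hbc]
    obtain ⟨v, hv, w, hw, hvw⟩ := (Finset.one_lt_card (s := Δ.erase a)).1 (by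
      rw [Finset.card_erase_of_mem ha]; have := hF.1; omega)
    rw [Finset.mem_erase] at hv hw
    have h1 := H.mul_mem (H.mul_mem hmem (hF.2 a ha v hv.2 w hw.2 hv.1.symm hw.1.symm hvw))
      (H.inv_mem hmem)
    rw [conj_cyc, cyc_apply_left hab hac,
      cyc_apply_other hv.1 (ne_of_mem_of_not_mem hv.2 hb) (ne_of_mem_of_not_mem hv.2 hc),
      cyc_apply_other hw.1 (ne_of_mem_of_not_mem hw.2 hb) (ne_of_mem_of_not_mem hw.2 hc)] at h1
    refine hno b hb v hv.2 w hw.2 hvw ?_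
    rwa [cyc_rot (fun e : b = v => hb (e ▸ hv.2)) (fun e : b = w => hb (e ▸ hw.2)) hvw]
  have m1 : cyc b c a ∈ H := by rwa [cyc_rot hab hac hbc]
  have m2 : cyc c a b ∈ H := by rwa [cyc_rot hbc hab.symm hac.symm, cyc_rot hab hac hbc]
  rw [hs] at hu hns
  simp only [Finset.mem_insert, Finset.mem_singleton] at hu
  by_cases ha : a ∈ Δ <;> by_cases hb : b ∈ Δ <;> by_cases hc : c ∈ Δ
  · exact hns (by simp [Finset.insert_subset_iff, ha, hb, hc])
  · exact key b c a hbc hab.symm hac.symm m1 hb hc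
  · exact key a b c hab hac hbc hτH ha hb
  · exact key a b c hab hac hbc hτH ha hb
  · exact key c a b hac.symm hbc.symm hab m2 hc ha
  · exact key b c a hbc hab.symm hac.symm m1 hb hc
  · exact key c a b hac.symm hbc.symm hab m2 hc ha
  · rcases hu with rfl | rfl | rfl <;> contradiction

end CfsgLib.ThreeCycles
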