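import Cfsg.Agent.Lib.ThreeCycles.Blocks
import Cfsg.Agent.Lib.Components.Basic
import Cfsg.Agent.Lib.Components.FStar
import Cfsg.Agent.Lib.InvChar.SmallSolvable

/-!
A permutation group containing 3-cycles whose generalized Fitting subgroup is quasisimple.
-/

set_option autoImplicit false

namespace CfsgLib.ThreeCycles

open Equiv
open scoped commutatorElement

variable {α : Type*} [Fintype α] [DecidableEq α]

/-- The even permutations with support in `Δ`. -/
def altOn (Δ : Finset α) : Subgroup (Perm α) :=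
  (alternatingGroup ↥Δ).map Perm.ofSubtype

theorem mem_altOn {Δ : Finset α} {σ : Perm α} (h : σ.IsThreeCycle) (hs : σ.support ⊆ Δ) :
    σ ∈ altOn Δ := by
  rw [altOn, alternatingGroup.map_ofSubtype]
  exact ⟨(Perm.mem_range_ofSubtype_iff (p := (· ∈ Δ))).2 hs, h.mem_alternatingGroup⟩

theorem support_of_mem_altOn {Δ : Finset α} {σ : Perm α} (h : σ ∈ altOn Δ) : σ.support ⊆ Δ := by
  rw [altOn, alternatingGroup.map_ofSubtype] at h
  exact (Perm.mem_range_ofSubtype_iff (p := (· ∈ Δ))).1 h.1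

theorem altOn_le {H : Subgroup (Perm α)} {Δ : Finset α} (h : Full H Δ) : altOn Δ ≤ H := by
  rw [altOn, ← Perm.closure_three_cycles_eq_alternating, MonoidHom.map_closure, Subgroup.closure_le]
  rintro _ ⟨τ, hτ, rfl⟩
  obtain ⟨a, b, c, hab, hac, hbc, rfl, -⟩ := exists_cyc hτ
  rw [SetLike.mem_coe, cyc, map_mul, Perm.ofSubtype_swap_eq, Perm.ofSubtype_swap_eq]
  exact h.2 a a.2 b b.2 c c.2 (fun e => hab (Subtype.ext e)) (fun e => hac (Subtype.ext e))
    fun e => hbc (Subtype.ext e)

/-- A perfect group centralizing a 3-cycle does not contain it. -/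
theorem not_mem_of_centralizes {K : Subgroup (Perm α)} (hK : ⁅K, K⁆ = K) {x : Perm α}
    (hx : x.IsThreeCycle) (hc : ∀ k ∈ K, k * x = x * k) : x ∉ K := by
  intro hxK
  obtain ⟨a, b, c, hab, hac, hbc, rfl, hs⟩ := exists_cyc hx
  set σ := cyc a b c with hσ
  have hσa : σ a ≠ a := by rw [hσ, cyc_apply_left hab hac]; exact hab.symm
  have hpow : ∀ k ∈ K, ∃ i : ℕ, k a = (σ ^ i) a := by
    intro k hk
    have h1 : σ (k a) ≠ k a := fun e => hσa (k.injective (by
      have := congrArg (fun f : Perm α => f a) (hc k hk)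
      simp only [Perm.mul_apply] at this
      rw [this, e]))
    rw [← Perm.mem_support, hs] at h1
    simp only [Finset.mem_insert, Finset.mem_singleton] at h1
    rcases h1 with e | e | e
    · exact ⟨0, by simpa using e⟩
    · exact ⟨1, by simp [e, hσ, cyc_apply_left hab hac]⟩
    · exact ⟨2, by simp [e, hσ, pow_two, cyc_apply_left hab hac, cyc_apply_mid hac hbc]⟩
  have happly : ∀ k ∈ K, ∀ i : ℕ, k ((σ ^ i) a) = (σ ^ i) (k a) := fun k hk i => by
    have := congrArg (fun f : Perm α => f a)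
      ((show Commute k σ from hc k hk).pow_right i).eq
    simpa using this
  have hcomm : ∀ k ∈ K, ∀ l ∈ K, ⁅k, l⁆ a = a := by
    intro k hk l hl
    obtain ⟨i, hi⟩ := hpow k hk
    obtain ⟨j, hj⟩ := hpow l hl
    have e : (k * l) a = (l * k) a := by
      simp only [Perm.mul_apply]
      rw [hj, happly k hk j, hi, happly l hl i, hj, ← Perm.mul_apply, ← Perm.mul_apply, ← pow_add,
        ← pow_add, add_comm]
    have e2 : ⁅k, l⁆ ((l * k) a) = (k * l) a := by
      rw [← Perm.mul_apply, show ⁅k, l⁆ * (l * k) = k * l by rw [commutatorElement_def]; group]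
    rw [e] at e2
    obtain ⟨u, hu⟩ := hpow _ (K.mul_mem hl hk)
    have hm : ⁅k, l⁆ ∈ K := hK.le (Subgroup.commutator_mem_commutator hk hl)
    rw [hu, happly _ hm u] at e2
    exact (σ ^ u).injective e2
  have hle : K ≤ MulAction.stabilizer (Perm α) a := by
    conv_lhs => rw [← hK]
    exact Subgroup.commutator_le.2 fun k hk l hl => hcomm k hk l hl
  exact hσa (hle hxK)

theorem main {n : ℕ} (H : Subgroup (Perm (Fin n)))
    (hF : Cfsg.IsQuasisimple ↥(Cfsg.generalizedFittingSubgroup ↥H))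
    (S : Finset (Fin n)) (hS : ∀ z ∈ S, ∃ σ ∈ H, σ.IsThreeCycle ∧ z ∈ σ.support)
    (hne : S.Nonempty) :
    ∃ m : ℕ, S.card ≤ m ∧ m ≤ n ∧
      Nonempty (↥(Cfsg.generalizedFittingSubgroup ↥H) ≃* ↥(alternatingGroup (Fin m))) := by
  classical
  set K₀ := Cfsg.generalizedFittingSubgroup ↥H with hK₀
  haveI : K₀.Normal := CfsgLib.Components.generalizedFitting_normal
  set K := K₀.map H.subtype with hKdef
  have hKH : K ≤ H := Subgroup.map_subtype_le _
  have hKn : H ≤ Subgroup.normalizer (K : Set (Perm (Fin n))) := by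
    intro g hg
    refine Subgroup.le_normalizer_map H.subtype ⟨⟨g, hg⟩, ?_, rfl⟩
    rw [Subgroup.normalizer_eq_top]; trivial
  have hC : ∀ z ∈ H, (∀ k ∈ K, k * z = z * k) → z ∈ K := fun z hz hc =>
    ⟨⟨z, hz⟩, CfsgLib.Components.centralizer_generalizedFitting_le (G := ↥H)
      (Subgroup.mem_centralizer_iff.2 fun k hk => Subtype.ext (hc k ⟨k, hk, rfl⟩)), rfl⟩
  have e₀ : ↥K₀ ≃* ↥K := K₀.equivMapOfInjective _ H.subtype_injective
  have hq : Cfsg.IsQuasisimple ↥K := CfsgLib.Components.isQuasisimple_of_mulEquiv hF e₀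
  have hperf : ⁅K, K⁆ = K := by
    rw [← Subgroup.map_subtype_commutator K, CfsgLib.Components.quasisimple_commutator_eq_top hq,
      ← MonoidHom.range_eq_map, Subgroup.range_subtype]
  -- a subgroup normalized by `K` and commutating into itself is all of `K` or is centralized
  have key : ∀ A : Subgroup (Perm (Fin n)), K ≤ Subgroup.normalizer (A : Set (Perm (Fin n))) →
      A ≤ H → K ≤ A ∨ ∀ k ∈ K, ∀ a ∈ A, k * a = a * k := by
    intro A hKA hAH
    haveI : ((A ⊓ K).subgroupOf K).Normal := by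
      refine (Subgroup.normal_subgroupOf_iff_le_normalizer inf_le_right).2 fun k hk => ?_
      refine Subgroup.mem_normalizer_iff.2 fun y => ?_
      exact and_congr (Subgroup.mem_normalizer_iff.1 (hKA hk) y)
        (Subgroup.mem_normalizer_iff.1 (Subgroup.le_normalizer hk) y)
    rcases CfsgLib.Components.quasisimple_normal_eq_top_or_le_center hq ((A ⊓ K).subgroupOf K)
      with e | e
    · exact Or.inl fun k hk => (show (⟨k, hk⟩ : ↥K) ∈ (A ⊓ K).subgroupOf K from
        e ▸ Subgroup.mem_top _).1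
    · right
      have h1 : ⁅K, A⁆ ≤ A ⊓ K := le_inf
        (Subgroup.commutator_le.2 fun k hk a ha => by
          rw [commutatorElement_def]
          exact A.mul_mem ((Subgroup.mem_normalizer_iff.1 (hKA hk) a).1 ha) (A.inv_mem ha))
        (Subgroup.commutator_le.2 fun k hk a ha => by
          rw [commutatorElement_def, show k * a * k⁻¹ * a⁻¹ = k * (a * k⁻¹ * a⁻¹) by group]
          exact K.mul_mem hk
            ((Subgroup.mem_normalizer_iff.1 (hKn (hAH ha)) _).1 (K.inv_mem hk)))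
      have h2 : ⁅⁅K, A⁆, K⁆ = ⊥ := Subgroup.commutator_eq_bot_iff_le_centralizer.2 fun y hy =>
        Subgroup.mem_centralizer_iff.2 fun k hk => congrArg Subtype.val
          (Subgroup.mem_center_iff.1 (e (show (⟨y, (h1 hy).2⟩ : ↥K) ∈ (A ⊓ K).subgroupOf K from h1 hy))
            ⟨k, hk⟩)
      exact fun k hk a ha => CfsgLib.Components.commute_of_commutator_eq_bot
        (CfsgLib.Components.commutator_eq_bot_of_perfect hperf h2) hk ha
  set M := Subgroup.closure {σ : Perm (Fin n) | σ.IsThreeCycle ∧ σ ∈ H} with hM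
  have hMH : M ≤ H := (Subgroup.closure_le _).2 fun σ hσ => hσ.2
  have hHM : ∀ g ∈ H, g ∈ Subgroup.normalizer (M : Set (Perm (Fin n))) := by
    have hle : ∀ g ∈ H, ∀ y ∈ M, g * y * g⁻¹ ∈ M := by
      intro g hg y hy
      suffices hle : M ≤ M.comap (MulAut.conj g).toMonoidHom from hle hy
      rw [hM, Subgroup.closure_le]
      intro σ hσ
      exact Subgroup.subset_closure
        ⟨show (g * σ * g⁻¹).cycleType = {3} by rw [Perm.cycleType_conj]; exact hσ.1,
          H.mul_mem (H.mul_mem hg hσ.2) (H.inv_mem hg)⟩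
    intro g hg
    refine Subgroup.mem_normalizer_iff.2 fun y => ⟨hle g hg y, fun hy => ?_⟩
    have := hle g⁻¹ (H.inv_mem hg) _ hy
    simpa [mul_assoc] using this
  obtain ⟨z₀, hz₀⟩ := hne
  obtain ⟨σ₀, hσ₀H, hσ₀, -⟩ := hS z₀ hz₀
  obtain ⟨x, hx, hxH, hxK⟩ : ∃ x : Perm (Fin n), x.IsThreeCycle ∧ x ∈ H ∧
      ¬ ∀ k ∈ K, k * x = x * k := by
    by_contra hcon
    push Not at hcon
    exact not_mem_of_centralizes hperf hσ₀ (hcon σ₀ hσ₀ hσ₀H) (hC σ₀ hσ₀H (hcon σ₀ hσ₀ hσ₀H))
  have hKM : K ≤ M := (key M (fun k hk => hHM k (hKH hk)) hMH).resolve_right fun h =>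
    hxK fun k hk => h k hk x (Subgroup.subset_closure ⟨hx, hxH⟩)
  obtain ⟨Δ, hΔ, hsub, hmax⟩ := exists_max hx hxH
  set A := altOn Δ with hA
  have hdis : ∀ τ : Perm (Fin n), τ.IsThreeCycle → τ ∈ H → ¬ τ.support ⊆ Δ → ∀ y ∈ A,
      τ * y = y * τ := by
    intro τ hτ hτH hns y hy
    refine (Perm.disjoint_iff_disjoint_support.2 ?_).commute.eq
    refine Finset.disjoint_of_subset_right (support_of_mem_altOn hy) ?_
    by_contra hd
    exact hns (hmax τ hτ hτH hd)
  have hMA : M ≤ Subgroup.normalizer (A : Set (Perm (Fin n))) := by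
    rw [hM, Subgroup.closure_le]
    rintro τ ⟨hτ, hτH⟩
    by_cases hs : τ.support ⊆ Δ
    · exact Subgroup.le_normalizer (mem_altOn hτ hs)
    · exact Subgroup.centralizer_le_normalizer _
        (Subgroup.mem_centralizer_iff.2 fun y hy => (hdis τ hτ hτH hs y hy).symm)
  have hKA : K ≤ A := (key A (hKM.trans hMA) (altOn_le hΔ)).resolve_right fun h =>
    hxK fun k hk => h k hk x (mem_altOn hx hsub)
  set f : ↥(alternatingGroup ↥Δ) →* Perm (Fin n) :=
    (Perm.ofSubtype : Perm ↥Δ →* Perm (Fin n)).comp (alternatingGroup ↥Δ).subtype with hf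
  have hfinj : Function.Injective f :=
    Perm.ofSubtype_injective.comp (alternatingGroup ↥Δ).subtype_injective
  have hfA : ∀ a ∈ A, ∃ a', f a' = a := by
    rintro _ ⟨a, ha, rfl⟩
    exact ⟨⟨a, ha⟩, rfl⟩
  set g : ↥K →* ↥(alternatingGroup ↥Δ) :=
    ((MonoidHom.ofInjective hfinj).symm.toMonoidHom).comp
      (Subgroup.inclusion (fun k hk => hfA k (hKA hk) : K ≤ f.range)) with hg
  have hginj : Function.Injective g :=
    (MonoidHom.ofInjective hfinj).symm.injective.comp (Subgroup.inclusion_injective _)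
  have hfg : ∀ k, f (g k) = k := fun k => by
    simp only [hg, MonoidHom.coe_comp, Function.comp_apply, MulEquiv.toMonoidHom_eq_coe,
      MonoidHom.coe_coe, MonoidHom.apply_ofInjective_symm]
    rfl
  have h5 : 5 ≤ Fintype.card ↥Δ := by
    by_contra h5
    obtain ⟨emb⟩ : Nonempty (↥Δ ↪ Fin 4) :=
      Function.Embedding.nonempty_of_card_le (by rw [Fintype.card_fin]; omega)
    haveI := CfsgLib.InvCharSmall.isSolvable_perm_four
    exact CfsgLib.Components.quasisimple_not_isSolvable hq (solvable_of_solvable_injective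
      (f := ((Perm.viaEmbeddingHom emb).comp (alternatingGroup ↥Δ).subtype).comp g)
      (((Perm.viaEmbeddingHom_injective emb).comp (alternatingGroup ↥Δ).subtype_injective).comp hginj))
  haveI : IsSimpleGroup ↥(alternatingGroup ↥Δ) :=
    alternatingGroup.isSimpleGroup (by rw [Nat.card_eq_fintype_card]; exact h5)
  have hgsurj : Function.Surjective g := by
    haveI hgn : g.range.Normal := by
      constructor
      rintro _ ⟨k, rfl⟩ a
      have hm : f a * (k : Perm (Fin n)) * (f a)⁻¹ ∈ K :=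
        (Subgroup.mem_normalizer_iff.1 (hKn (altOn_le hΔ ⟨a, a.2, rfl⟩)) _).1 k.2
      refine ⟨⟨_, hm⟩, hfinj ?_⟩
      rw [hfg, map_mul, map_mul, map_inv, hfg]
    rcases hgn.eq_bot_or_eq_top with e | e
    · exfalso
      haveI := CfsgLib.Components.quasisimple_nontrivial hq
      obtain ⟨k, hk⟩ := exists_ne (1 : ↥K)
      exact hk (hginj ((Subgroup.eq_bot_iff_forall _).1 e _ ⟨k, rfl⟩ |>.trans (map_one g).symm))
    · exact MonoidHom.range_eq_top.1 e
  have hAK : A ≤ K := by
    rintro _ ⟨a, ha, rfl⟩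
    obtain ⟨k, hk⟩ := hgsurj ⟨a, ha⟩
    have := hfg k
    rw [hk] at this
    exact this ▸ k.2
  have hall : ∀ τ : Perm (Fin n), τ.IsThreeCycle → τ ∈ H → τ.support ⊆ Δ := by
    intro τ hτ hτH
    by_contra hns
    exact hns (support_of_mem_altOn (hKA (hC τ hτH fun k hk =>
      (hdis τ hτ hτH hns k (hKA hk)).symm)))
  refine ⟨Δ.card, Finset.card_le_card fun z hz => ?_, (Finset.card_le_univ Δ).trans (by simp), ?_⟩
  · obtain ⟨σ, hσH, hσ, hzσ⟩ := hS z hz
    exact hall σ hσ hσH hzσ
  exact ⟨(e₀.trans (MulEquiv.ofBijective g ⟨hginj, hgsurj⟩)).trans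
    (Equiv.altCongrHom Δ.equivFin)⟩

end CfsgLib.ThreeCycles
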