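import Cfsg.Agent.Lib.ThreeCycles.Blocks
import Mathlib

/-!
Two proper subgroups of an alternating group over a common Sylow 3-subgroup which generate it.
-/

set_option autoImplicit false

namespace CfsgLib.ThreeCycles

open Equiv
open scoped Pointwise

/-- Some Sylow 3-subgroup lies in two subgroups, neither containing the alternating group, whose
even parts generate it. -/
def Splits (α : Type*) [Fintype α] [DecidableEq α] : Prop :=
  ∃ S : Sylow 3 (Perm α), ∃ X₁ X₂ : Subgroup (Perm α),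
    (S : Subgroup (Perm α)) ≤ X₁ ∧ (S : Subgroup (Perm α)) ≤ X₂ ∧
    ¬ alternatingGroup α ≤ X₁ ∧ ¬ alternatingGroup α ≤ X₂ ∧
    alternatingGroup α ≤ (X₁ ⊓ alternatingGroup α) ⊔ (X₂ ⊓ alternatingGroup α)

variable {α : Type*} [Fintype α] [DecidableEq α]

theorem cyc_mem_alt {a b c : α} (hab : a ≠ b) (hac : a ≠ c) (hbc : b ≠ c) :
    cyc a b c ∈ alternatingGroup α :=
  (isThreeCycle_cyc hab hac hbc).mem_alternatingGroup

theorem alt_le_of_full {J : Subgroup (Perm α)} {Δ : Finset α} (h : Full J Δ) (hΔ : ∀ z, z ∈ Δ) :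
    alternatingGroup α ≤ J := by
  rw [← Perm.closure_three_cycles_eq_alternating, Subgroup.closure_le]
  intro σ hσ
  obtain ⟨a, b, c, hab, hac, hbc, rfl, -⟩ := exists_cyc hσ
  exact h.2 a (hΔ a) b (hΔ b) c (hΔ c) hab hac hbc

theorem alt_le_of_cover {J : Subgroup (Perm α)} {Y₁ Y₂ : Finset α}
    (h1 : ∀ a ∈ Y₁, ∀ b ∈ Y₁, ∀ c ∈ Y₁, a ≠ b → a ≠ c → b ≠ c → cyc a b c ∈ J)
    (h2 : ∀ a ∈ Y₂, ∀ b ∈ Y₂, ∀ c ∈ Y₂, a ≠ b → a ≠ c → b ≠ c → cyc a b c ∈ J)
    (c₁ : 3 ≤ Y₁.card) (c₂ : 3 ≤ Y₂.card) {w : α} (hw₁ : w ∈ Y₁) (hw₂ : w ∈ Y₂)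
    (hcov : ∀ z, z ∈ Y₁ ∨ z ∈ Y₂) : alternatingGroup α ≤ J := by
  obtain ⟨p, hp, q, hq, hpq⟩ := (Finset.one_lt_card (s := Y₁.erase w)).1 (by
    rw [Finset.card_erase_of_mem hw₁]; omega)
  rw [Finset.mem_erase] at hp hq
  have hσ := h1 w hw₁ p hp.2 q hq.2 hp.1.symm hq.1.symm hpq
  obtain ⟨Δ, hF, hsub, hmax⟩ := exists_max (isThreeCycle_cyc hp.1.symm hq.1.symm hpq) hσ
  have hsupp : ∀ {a b c : α}, a ≠ b → a ≠ c → b ≠ c →
      a ∈ (cyc a b c).support ∧ b ∈ (cyc a b c).support := fun hab hac hbc =>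
    ⟨Perm.mem_support.2 (by rw [cyc_apply_left hab hac]; exact hab.symm),
      Perm.mem_support.2 (by rw [cyc_apply_mid hac hbc]; exact hbc.symm)⟩
  have hwΔ : w ∈ Δ := hsub (hsupp hp.1.symm hq.1.symm hpq).1
  have hin : ∀ Y : Finset α, 3 ≤ Y.card →
      (∀ a ∈ Y, ∀ b ∈ Y, ∀ c ∈ Y, a ≠ b → a ≠ c → b ≠ c → cyc a b c ∈ J) → w ∈ Y →
      ∀ z ∈ Y, z ∈ Δ := by
    intro Y hY hc hwY z hz
    by_cases e : z = w
    · exact e ▸ hwΔ
    obtain ⟨r, hr⟩ := Finset.card_pos.1 (show 0 < ((Y.erase w).erase z).card by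
      rw [Finset.card_erase_of_mem (Finset.mem_erase.2 ⟨e, hz⟩), Finset.card_erase_of_mem hwY]
      omega)
    simp only [Finset.mem_erase] at hr
    obtain ⟨a1, a2⟩ := hsupp (a := w) (b := z) (c := r) (Ne.symm e) hr.2.1.symm hr.1.symm
    exact hmax _ (isThreeCycle_cyc (Ne.symm e) hr.2.1.symm hr.1.symm)
      (hc w hwY z hz r hr.2.2 (Ne.symm e) hr.2.1.symm hr.1.symm)
      (Finset.not_disjoint_iff.2 ⟨w, a1, hwΔ⟩) a2
  exact alt_le_of_full hF fun z => (hcov z).elim (hin Y₁ c₁ h1 hw₁ z) (hin Y₂ c₂ h2 hw₂ z)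

theorem sylow_le_alt (S : Sylow 3 (Perm α)) : (S : Subgroup (Perm α)) ≤ alternatingGroup α := by
  intro s hs
  rw [Perm.mem_alternatingGroup]
  obtain ⟨k, hk⟩ := S.2 ⟨s, hs⟩
  have h := congrArg (fun t => Perm.sign (Subtype.val t)) hk
  simp only [SubmonoidClass.coe_pow, map_pow, OneMemClass.coe_one, map_one] at h
  rcases Int.units_eq_one_or (Perm.sign s) with e | e
  · exact e
  · rw [e, (Nat.Prime.odd_of_ne_two Nat.prime_three (by norm_num)).pow.neg_one_pow] at h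
    exact absurd h (by decide)

/-- The stabilizer of a proper nonempty set does not contain the alternating group. -/
theorem not_alt_le_stabilizer {Y : Finset α} (h3 : 3 ≤ Fintype.card α) {y z : α} (hy : y ∈ Y)
    (hz : z ∉ Y) : ¬ alternatingGroup α ≤ MulAction.stabilizer (Perm α) Y := by
  intro hle
  have hyz : y ≠ z := fun e => hz (e ▸ hy)
  obtain ⟨w, hw⟩ := Finset.card_pos.1 (show 0 < (((Finset.univ : Finset α).erase y).erase z).card by
    rw [Finset.card_erase_of_mem (Finset.mem_erase.2 ⟨hyz.symm, Finset.mem_univ z⟩),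
      Finset.card_erase_of_mem (Finset.mem_univ y), Finset.card_univ]
    omega)
  simp only [Finset.mem_erase, Finset.mem_univ, and_true] at hw
  have h := MulAction.mem_stabilizer_iff.1 (hle (cyc_mem_alt hyz hw.2.symm hw.1.symm))
  have hm : cyc y z w y ∈ cyc y z w • Y := Finset.smul_mem_smul_finset hy
  rw [h, cyc_apply_left hyz hw.2.symm] at hm
  exact hz hm

theorem cyc_mem_stabilizer {Y : Finset α} {a b c : α}
    (h : (a ∈ Y ∧ b ∈ Y ∧ c ∈ Y) ∨ (a ∉ Y ∧ b ∉ Y ∧ c ∉ Y)) :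
    cyc a b c ∈ MulAction.stabilizer (Perm α) Y := by
  rw [MulAction.mem_stabilizer_iff]
  refine Finset.eq_of_subset_of_card_le (fun z hz => ?_) (Finset.card_smul_finset _ _).ge
  obtain ⟨u, hu, rfl⟩ := Finset.mem_smul_finset.1 hz
  rw [Perm.smul_def]
  by_cases e : cyc a b c u = u
  · rwa [e]
  have h1 := support_cyc_subset a b c (Perm.mem_support.2 e)
  have h2 := support_cyc_subset a b c (Perm.apply_mem_support.2 (Perm.mem_support.2 e))
  simp only [Finset.mem_insert, Finset.mem_singleton] at h1 h2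
  rcases h with ⟨ha, hb, hc⟩ | ⟨ha, hb, hc⟩
  · rcases h2 with e2 | e2 | e2 <;> rw [e2] <;> assumption
  · rcases h1 with e1 | e1 | e1 <;> rw [e1] at hu <;> contradiction

theorem sylow_le_stabilizer {S : Sylow 3 (Perm α)} {Y : Finset α}
    (h : ∀ s ∈ (S : Subgroup (Perm α)), ∀ y ∈ Y, s y ∈ Y) :
    (S : Subgroup (Perm α)) ≤ MulAction.stabilizer (Perm α) Y := by
  intro s hs
  rw [MulAction.mem_stabilizer_iff]
  refine Finset.eq_of_subset_of_card_le (fun z hz => ?_) (Finset.card_smul_finset _ _).ge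
  obtain ⟨u, hu, rfl⟩ := Finset.mem_smul_finset.1 hz
  exact h s hs u hu

/-- A Sylow subgroup fixing a point `z` and leaving a set with `z` and at least two others
invariant. -/
theorem splits_of_fixed (S : Sylow 3 (Perm α)) {z : α} {Y : Finset α}
    (hz : ∀ s ∈ (S : Subgroup (Perm α)), s z = z)
    (hY : ∀ s ∈ (S : Subgroup (Perm α)), ∀ y ∈ Y, s y ∈ Y) (hzY : z ∈ Y) (h3 : 3 ≤ Y.card)
    (hne : Y ≠ Finset.univ) (hn : 4 ≤ Fintype.card α) : Splits α := by
  obtain ⟨u, hu⟩ : ∃ u, u ∉ Y := by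
    by_contra hcon
    push Not at hcon
    exact hne (Finset.eq_univ_of_forall hcon)
  obtain ⟨w, hw, hwz⟩ : ∃ w ∈ Y, w ≠ z := Finset.exists_mem_ne (by omega) z
  refine ⟨S, MulAction.stabilizer (Perm α) ({z} : Finset α), MulAction.stabilizer (Perm α) Y,
    sylow_le_stabilizer fun s hs y hy => ?_, sylow_le_stabilizer hY,
    not_alt_le_stabilizer (by omega) (Finset.mem_singleton_self z)
      (fun h => hwz (Finset.mem_singleton.1 h)),
    not_alt_le_stabilizer (by omega) hzY hu, ?_⟩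
  · rw [Finset.mem_singleton] at hy ⊢
    rw [hy, hz s hs]
  refine alt_le_of_cover (Y₁ := Finset.univ.erase z) (Y₂ := Y) ?_ ?_ ?_ h3
    (Finset.mem_erase.2 ⟨hwz, Finset.mem_univ w⟩) hw ?_
  · intro a ha b hb c hc hab hac hbc
    simp only [Finset.mem_erase, Finset.mem_univ, and_true] at ha hb hc
    exact Subgroup.mem_sup_left ⟨cyc_mem_stabilizer (Or.inr (by simp [ha, hb, hc])),
      cyc_mem_alt hab hac hbc⟩
  · intro a ha b hb c hc hab hac hbc
    exact Subgroup.mem_sup_right ⟨cyc_mem_stabilizer (Or.inl ⟨ha, hb, hc⟩), cyc_mem_alt hab hac hbc⟩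
  · rw [Finset.card_erase_of_mem (Finset.mem_univ z), Finset.card_univ]; omega
  · intro u
    by_cases e : u = z
    · exact Or.inr (e ▸ hzY)
    · exact Or.inl (Finset.mem_erase.2 ⟨e, Finset.mem_univ u⟩)

theorem orbit_card_pow {P : Subgroup (Perm α)} (hP : IsPGroup 3 ↥P) (a : α) :
    ∃ O : Finset α, a ∈ O ∧ (∀ s ∈ P, ∀ y ∈ O, s y ∈ O) ∧ (∀ y ∈ O, ∃ s ∈ P, s a = y) ∧
      ∃ j, O.card = 3 ^ j := by
  classical
  haveI : Fact (Nat.Prime 3) := ⟨Nat.prime_three⟩
  obtain ⟨j, hj⟩ := hP.card_orbit a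
  refine ⟨(MulAction.orbit ↥P a).toFinset, Set.mem_toFinset.2 (MulAction.mem_orbit_self a), ?_, fun y hy => ?_, j, ?_⟩
  · intro s hs y hy
    rw [Set.mem_toFinset] at hy ⊢
    obtain ⟨t, rfl⟩ := hy
    exact ⟨⟨s, hs⟩ * t, rfl⟩
  · obtain ⟨t, rfl⟩ := Set.mem_toFinset.1 hy
    exact ⟨t, t.2, rfl⟩
  · rw [← hj, Nat.card_coe_set_eq, Set.ncard_eq_toFinset_card']

theorem splits_of_mod_ne (hn : 5 ≤ Fintype.card α) (hmod : Fintype.card α % 3 ≠ 0)
    (hpow : ¬ ∃ a, 2 ≤ a ∧ Fintype.card α = 3 ^ a + 1) : Splits α := by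
  classical
  haveI : Fact (Nat.Prime 3) := ⟨Nat.prime_three⟩
  obtain ⟨S⟩ : Nonempty (Sylow 3 (Perm α)) := inferInstance
  obtain ⟨z, hz⟩ := S.2.nonempty_fixed_point_of_prime_not_dvd_card α (by
    rw [Nat.card_eq_fintype_card]; omega)
  have hzS : ∀ s ∈ (S : Subgroup (Perm α)), s z = z := fun s hs => hz ⟨s, hs⟩
  by_cases htwo : ∃ z', z' ≠ z ∧ ∀ s ∈ (S : Subgroup (Perm α)), s z' = z'
  · obtain ⟨z', hne, hz'⟩ := htwo
    refine splits_of_fixed S (z := z) (Y := Finset.univ.erase z') hzS (fun s hs y hy => ?_)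
      (Finset.mem_erase.2 ⟨hne.symm, Finset.mem_univ z⟩) ?_ ?_ (by omega)
    · simp only [Finset.mem_erase, Finset.mem_univ, and_true] at hy ⊢
      exact fun e => hy (s.injective (e.trans (hz' s hs).symm))
    · rw [Finset.card_erase_of_mem (Finset.mem_univ z'), Finset.card_univ]; omega
    · intro e
      exact (Finset.mem_erase.1 (e.symm ▸ Finset.mem_univ z' : z' ∈ Finset.univ.erase z')).1 rfl
  push Not at htwo
  obtain ⟨a, ha⟩ := Finset.card_pos.1 (show 0 < ((Finset.univ : Finset α).erase z).card by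
    rw [Finset.card_erase_of_mem (Finset.mem_univ z), Finset.card_univ]; omega)
  simp only [Finset.mem_erase, Finset.mem_univ, and_true] at ha
  obtain ⟨O, haO, hO, htr, j, hj⟩ := orbit_card_pow S.2 a
  have hj0 : j ≠ 0 := by
    rintro rfl
    obtain ⟨s, hs, hsa⟩ := htwo a ha
    rw [pow_zero, Finset.card_eq_one] at hj
    obtain ⟨o, rfl⟩ := hj
    rw [Finset.mem_singleton] at haO
    exact hsa ((Finset.mem_singleton.1 (hO s hs a (by simp [haO]))).trans haO.symm)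
  have hzO : z ∉ O := by
    intro hzO
    obtain ⟨s, hs, hsa⟩ := htr z hzO
    exact ha (s.injective (hsa.trans (hzS s hs).symm))
  refine splits_of_fixed S (z := z) (Y := insert z O) hzS (fun s hs y hy => ?_)
    (Finset.mem_insert_self _ _) ?_ ?_ (by omega)
  · simp only [Finset.mem_insert] at hy ⊢
    rcases hy with rfl | hy
    · exact Or.inl (hzS s hs)
    · exact Or.inr (hO s hs y hy)
  · rw [Finset.card_insert_of_notMem hzO, hj]
    have : 3 ^ 1 ≤ 3 ^ j := Nat.pow_le_pow_right (by norm_num) (by omega)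
    omega
  · intro e
    have hc := congrArg Finset.card e
    rw [Finset.card_insert_of_notMem hzO, hj, Finset.card_univ] at hc
    refine hpow ⟨j, ?_, hc.symm⟩
    by_contra hj2
    have : j = 1 := by omega
    subst this
    omega

/-! ### Block systems -/

/-- The permutations respecting the fibres of `f`. -/
def blockGroup {β : Type*} (f : α → β) : Subgroup (Perm α) where
  carrier := {g | ∀ p q, f (g p) = f (g q) ↔ f p = f q}
  one_mem' := fun _ _ => Iff.rfl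
  mul_mem' := fun {g h} hg hh p q => (hg (h p) (h q)).trans (hh p q)
  inv_mem' := fun {g} hg p q => by
    have := hg (g⁻¹ p) (g⁻¹ q)
    rwa [Perm.inv_def, Equiv.apply_symm_apply, Equiv.apply_symm_apply, Iff.comm] at this

theorem not_alt_le_blockGroup {β : Type*} (f : α → β) {x y z : α} (hxy : x ≠ y) (hf : f x = f y)
    (hz : f z ≠ f x) (h4 : 4 ≤ Fintype.card α) : ¬ alternatingGroup α ≤ blockGroup f := by
  intro hle
  have hxz : x ≠ z := fun e => hz (by rw [e])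
  have hyz : y ≠ z := fun e => hz (by rw [hf, e])
  obtain ⟨w, hw⟩ := Finset.card_pos.1
    (show 0 < ((((Finset.univ : Finset α).erase x).erase y).erase z).card by
      rw [Finset.card_erase_of_mem (by simp [hxz.symm, hyz.symm]),
        Finset.card_erase_of_mem (by simp [hxy.symm]),
        Finset.card_erase_of_mem (Finset.mem_univ x), Finset.card_univ]
      omega)
  simp only [Finset.mem_erase, Finset.mem_univ, and_true] at hw
  have h := (hle (cyc_mem_alt hxz hw.2.2.symm hw.1.symm) x y).2 hf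
  rw [cyc_apply_left hxz hw.2.2.symm,
    cyc_apply_other hxy.symm hyz hw.2.1.symm] at h
  exact hz (h.trans hf.symm)

section Wreath

variable (β : Type*) [Fintype β] [DecidableEq β]

/-- The wreath product of a group of order three by a subgroup of `Perm β`. -/
def wreath (Q : Subgroup (Perm β)) : Subgroup (Perm (β × ZMod 3)) where
  carrier := {g | ∃ σ ∈ Q, ∃ d : β → ZMod 3, ∀ b i, g (b, i) = (σ b, i + d b)}
  one_mem' := ⟨1, Q.one_mem, fun _ => 0, fun b i => by simp⟩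
  mul_mem' := by
    rintro g h ⟨σ, hσ, d, hg⟩ ⟨τ, hτ, e, hh⟩
    exact ⟨σ * τ, Q.mul_mem hσ hτ, fun b => e b + d (τ b), fun b i => by
      rw [Perm.mul_apply, hh, hg, Perm.mul_apply, add_assoc]⟩
  inv_mem' := by
    rintro g ⟨σ, hσ, d, hg⟩
    refine ⟨σ⁻¹, Q.inv_mem hσ, fun b => - d (σ⁻¹ b), fun b i => ?_⟩
    rw [Perm.inv_def, Equiv.symm_apply_eq, hg]
    simp [Perm.inv_def]

theorem wreath_card (Q : Subgroup (Perm β)) :
    Nat.card ↥(wreath β Q) = Nat.card ↥Q * 3 ^ Fintype.card β := by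
  classical
  let mk : ↥Q × (β → ZMod 3) → ↥(wreath β Q) := fun p =>
    ⟨{ toFun := fun x => ((p.1 : Perm β) x.1, x.2 + p.2 x.1)
       invFun := fun x => ((p.1 : Perm β).symm x.1, x.2 - p.2 ((p.1 : Perm β).symm x.1))
       left_inv := fun x => by simp
       right_inv := fun x => by simp },
      ⟨p.1, p.1.2, p.2, fun _ _ => rfl⟩⟩
  have hbij : Function.Bijective mk := by
    constructor
    · intro p q h
      have h' : ∀ b, ((p.1 : Perm β) b, (0 : ZMod 3) + p.2 b) = ((q.1 : Perm β) b, 0 + q.2 b) :=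
        fun b => congrArg (fun g : ↥(wreath β Q) => (g : Perm (β × ZMod 3)) (b, 0)) h
      exact Prod.ext (Subtype.ext (Equiv.ext fun b => congrArg Prod.fst (h' b)))
        (funext fun b => by simpa using congrArg Prod.snd (h' b))
    · rintro ⟨g, σ, hσ, d, hg⟩
      exact ⟨(⟨σ, hσ⟩, d), Subtype.ext (Equiv.ext fun x => (hg x.1 x.2).symm)⟩
  rw [← Nat.card_congr (Equiv.ofBijective mk hbij), Nat.card_prod, Nat.card_fun, Nat.card_zmod,
    Nat.card_eq_fintype_card (α := β)]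

theorem exists_sylow_wreath (Q : Sylow 3 (Perm β)) :
    ∃ S : Sylow 3 (Perm (β × ZMod 3)), (S : Subgroup (Perm (β × ZMod 3))) = wreath β Q := by
  haveI : Fact (Nat.Prime 3) := ⟨Nat.prime_three⟩
  have hc : Nat.card ↥(wreath β (Q : Subgroup (Perm β))) =
      3 ^ (Nat.card (Perm (β × ZMod 3))).factorization 3 := by
    rw [wreath_card, Q.card_eq_multiplicity, ← pow_add, Nat.card_perm, Nat.card_perm,
      Nat.factorization_def _ Nat.prime_three, Nat.factorization_def _ Nat.prime_three,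
      Nat.card_prod, Nat.card_zmod, mul_comm (Nat.card β) 3, padicValNat_factorial_mul,
      Nat.card_eq_fintype_card]
  exact ⟨Sylow.ofCard _ hc, rfl⟩

variable {β}

theorem wreath_le_blockGroup {Q : Subgroup (Perm β)} :
    wreath β Q ≤ blockGroup (Prod.fst : β × ZMod 3 → β) := by
  rintro g ⟨σ, -, d, hg⟩ ⟨a, i⟩ ⟨b, j⟩
  simp [hg]

/-- An even permutation respecting the blocks which exchanges two blocks and fixes a third. -/
theorem exists_block_swap {b₁ b₂ b : β} (h2 : b₁ ≠ b₂) (h : b₁ ≠ b) (i₀ : ZMod 3) :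
    ∃ g ∈ blockGroup (Prod.fst : β × ZMod 3 → β) ⊓ alternatingGroup (β × ZMod 3),
      (∀ i, (g (b₁, i)).1 = b₁) ∧ g (b₂, i₀) = (b, i₀) := by
  set g₀ : Perm (β × ZMod 3) := (Equiv.swap b₂ b).prodCongr (Equiv.refl _) with hg₀
  set t : Perm (β × ZMod 3) := Equiv.swap (b₁, (0 : ZMod 3)) (b₁, 1) with ht
  have hfst : ∀ x, (g₀ x).1 = Equiv.swap b₂ b x.1 := fun x => rfl
  have ht1 : ∀ x, (t x).1 = x.1 := fun x => by
    rw [ht, Equiv.swap_apply_def]
    split_ifs with e1 e2 <;> simp_all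
  have hg₀B : g₀ ∈ blockGroup (Prod.fst : β × ZMod 3 → β) := fun p q => by
    rw [hfst, hfst]; exact (Equiv.swap b₂ b).injective.eq_iff
  have htB : t ∈ blockGroup (Prod.fst : β × ZMod 3 → β) := fun p q => by rw [ht1, ht1]
  have e1 : Equiv.swap b₂ b b₁ = b₁ := Equiv.swap_apply_of_ne_of_ne h2 h
  rcases Int.units_eq_one_or (Perm.sign g₀) with e | e
  · exact ⟨g₀, ⟨hg₀B, e⟩, fun i => e1, by simp [hg₀]⟩
  · refine ⟨g₀ * t, ⟨Subgroup.mul_mem _ hg₀B htB, ?_⟩, fun i => ?_, ?_⟩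
    · show Perm.sign (g₀ * t) = 1
      rw [map_mul, e, ht, Perm.sign_swap (by simp)]
      rfl
    · rw [Perm.mul_apply, hfst, ht1]; exact e1
    · rw [Perm.mul_apply, ht, Equiv.swap_apply_of_ne_of_ne (by simp [h2.symm]) (by simp [h2.symm])]
      simp [hg₀]

/-- With the block group, a group with the 3-cycles of a union of at least two but not all blocks
gives the alternating group. -/
theorem alt_le_of_blocks {J : Subgroup (Perm (β × ZMod 3))} {C : Finset β} (hC : 2 ≤ C.card)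
    (hJ : blockGroup (Prod.fst : β × ZMod 3 → β) ⊓ alternatingGroup (β × ZMod 3) ≤ J)
    (hcyc : ∀ x y z : β × ZMod 3, x.1 ∈ C → y.1 ∈ C → z.1 ∈ C → x ≠ y → x ≠ z → y ≠ z →
      cyc x y z ∈ J) : alternatingGroup (β × ZMod 3) ≤ J := by
  classical
  obtain ⟨b₁, hb₁, b₂, hb₂, hne⟩ := Finset.one_lt_card.1 hC
  set p : β × ZMod 3 := (b₁, 0)
  set q : β × ZMod 3 := (b₁, 1)
  have hpq : p ≠ q := by simp [p, q]
  set r : β × ZMod 3 := (b₂, 0)
  have hpr : p ≠ r := by simp [p, r, hne]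
  have hqr : q ≠ r := by simp [q, r, hne]
  obtain ⟨Δ, hF, hsub, hmax⟩ := exists_max (isThreeCycle_cyc hpq hpr hqr)
    (hcyc p q r hb₁ hb₁ hb₂ hpq hpr hqr)
  have hsupp : ∀ {a b c : β × ZMod 3}, a ≠ b → a ≠ c → b ≠ c →
      a ∈ (cyc a b c).support ∧ b ∈ (cyc a b c).support := fun hab hac hbc =>
    ⟨Perm.mem_support.2 (by rw [cyc_apply_left hab hac]; exact hab.symm),
      Perm.mem_support.2 (by rw [cyc_apply_mid hac hbc]; exact hbc.symm)⟩
  have hp : p ∈ Δ := hsub (hsupp hpq hpr hqr).1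
  -- everything in the first block
  have h₁ : ∀ i, (b₁, i) ∈ Δ := by
    intro i
    by_cases e : (b₁, i) = p
    · exact e ▸ hp
    have e' : ((b₁, i) : β × ZMod 3) ≠ r := by simp [r, hne]
    obtain ⟨a1, a2⟩ := hsupp (a := p) (b := (b₁, i)) (c := r) (Ne.symm e) hpr e'
    exact hmax _ (isThreeCycle_cyc (Ne.symm e) hpr e') (hcyc _ _ _ hb₁ hb₁ hb₂ (Ne.symm e) hpr e')
      (Finset.not_disjoint_iff.2 ⟨p, a1, hp⟩) a2
  refine alt_le_of_full hF fun ⟨b, i⟩ => ?_
  by_cases e : b = b₁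
  · exact e ▸ h₁ i
  obtain ⟨g, hg, hg1, hg2⟩ := exists_block_swap hne (Ne.symm e) i
  set r' : β × ZMod 3 := (b₂, i)
  have hqr' : q ≠ r' := by simp [q, r', hne]
  have hpr' : p ≠ r' := by simp [p, r', hne]
  have hmem := J.mul_mem (J.mul_mem (hJ hg) (hcyc r' p q hb₂ hb₁ hb₁ hpr'.symm hqr'.symm hpq))
    (J.inv_mem (hJ hg))
  rw [conj_cyc, hg2] at hmem
  have n1 : ((b, i) : β × ZMod 3) ≠ g p := fun h => e (by
    have := congrArg Prod.fst h; rw [hg1] at this; exact this)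
  have n2 : ((b, i) : β × ZMod 3) ≠ g q := fun h => e (by
    have := congrArg Prod.fst h; rw [hg1] at this; exact this)
  obtain ⟨a1, a2⟩ := hsupp n1 n2 (g.injective.ne hpq)
  refine hmax _ (isThreeCycle_cyc n1 n2 (g.injective.ne hpq)) hmem
    (Finset.not_disjoint_iff.2 ⟨g p, a2, ?_⟩) a1
  rw [show g p = (b₁, (g p).2) from Prod.ext (hg1 0) rfl]
  exact h₁ _

end Wreath

theorem splits_of_intransitive {β : Type} [Fintype β] [DecidableEq β] (h : 3 ≤ Fintype.card β)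
    (hpow : ¬ ∃ a, Fintype.card β = 3 ^ a) : Splits (β × ZMod 3) := by
  classical
  obtain ⟨Q⟩ : Nonempty (Sylow 3 (Perm β)) := inferInstance
  obtain ⟨S, hS⟩ := exists_sylow_wreath β Q
  obtain ⟨a⟩ : Nonempty β := Fintype.card_pos_iff.1 (by omega)
  obtain ⟨O, haO, hO, -, j, hj⟩ := orbit_card_pow Q.2 a
  obtain ⟨u, hu⟩ : ∃ u, u ∉ O := by
    by_contra hcon
    push Not at hcon
    exact hpow ⟨j, by rw [← hj, Finset.eq_univ_of_forall hcon, Finset.card_univ]⟩
  set Y : Finset (β × ZMod 3) := O ×ˢ Finset.univ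
  have hY : ∀ x : β × ZMod 3, x ∈ Y ↔ x.1 ∈ O := fun x => by simp [Y]
  refine ⟨S, blockGroup Prod.fst, MulAction.stabilizer _ Y, hS ▸ wreath_le_blockGroup,
    sylow_le_stabilizer fun s hs y hy => ?_,
    not_alt_le_blockGroup _ (x := (a, 0)) (y := (a, 1)) (z := (u, 0)) (by simp) rfl
      (fun e : u = a => hu (e ▸ haO)) (by rw [Fintype.card_prod, ZMod.card]; omega),
    not_alt_le_stabilizer (by rw [Fintype.card_prod, ZMod.card]; omega)
      (y := (a, 0)) (z := (u, 0)) ((hY _).2 haO) (fun e => hu ((hY _).1 e)), ?_⟩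
  · rw [hS] at hs
    obtain ⟨σ, hσ, d, hd⟩ := hs
    obtain ⟨b, i⟩ := y
    rw [hY] at hy ⊢
    rw [hd]
    exact hO σ hσ b hy
  by_cases h1 : 2 ≤ O.card
  · exact alt_le_of_blocks h1 le_sup_left fun x y z hx hy hz n1 n2 n3 => Subgroup.mem_sup_right
      ⟨cyc_mem_stabilizer (Or.inl ⟨(hY _).2 hx, (hY _).2 hy, (hY _).2 hz⟩), cyc_mem_alt n1 n2 n3⟩
  · refine alt_le_of_blocks (C := Finset.univ \ O) ?_ le_sup_left
      fun x y z hx hy hz n1 n2 n3 => Subgroup.mem_sup_right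
        ⟨cyc_mem_stabilizer (Or.inr ?_), cyc_mem_alt n1 n2 n3⟩
    · rw [Finset.card_sdiff_of_subset (Finset.subset_univ _), Finset.card_univ]; omega
    · simp only [Finset.mem_sdiff, Finset.mem_univ, true_and] at hx hy hz
      exact ⟨fun e => hx ((hY _).1 e), fun e => hy ((hY _).1 e), fun e => hz ((hY _).1 e)⟩

theorem splits_of_transitive {γ : Type} [Fintype γ] [DecidableEq γ] (h : 2 ≤ Fintype.card γ) :
    Splits ((γ × ZMod 3) × ZMod 3) := by
  classical
  obtain ⟨R⟩ : Nonempty (Sylow 3 (Perm γ)) := inferInstance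
  obtain ⟨Q, hQ⟩ := exists_sylow_wreath γ R
  obtain ⟨S, hS⟩ := exists_sylow_wreath (γ × ZMod 3) Q
  obtain ⟨c, d, hcd⟩ := Fintype.one_lt_card_iff.1 h
  have h4 : 4 ≤ Fintype.card ((γ × ZMod 3) × ZMod 3) := by
    simp only [Fintype.card_prod, ZMod.card]; omega
  set f : (γ × ZMod 3) × ZMod 3 → γ := fun x => x.1.1
  refine ⟨S, blockGroup Prod.fst, blockGroup f, hS ▸ wreath_le_blockGroup, ?_,
    not_alt_le_blockGroup _ (x := ((c, 0), 0)) (y := ((c, 0), 1)) (z := ((d, 0), 0)) (by simp) rfl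
      (by simp [hcd.symm]) h4,
    not_alt_le_blockGroup f (x := ((c, 0), 0)) (y := ((c, 0), 1)) (z := ((d, 0), 0)) (by simp) rfl
      (by simp [f, hcd.symm]) h4, ?_⟩
  · rw [hS]
    rintro g ⟨σ, hσ, e, hg⟩ ⟨p, i⟩ ⟨q, j⟩
    rw [hQ] at hσ
    obtain ⟨τ, -, e', hτ⟩ := hσ
    obtain ⟨p1, p2⟩ := p
    obtain ⟨q1, q2⟩ := q
    simp [f, hg, hτ]
  refine alt_le_of_blocks (C := {c} ×ˢ Finset.univ) (by simp) le_sup_left
    fun x y z hx hy hz n1 n2 n3 => Subgroup.mem_sup_right ⟨fun p q => ?_, cyc_mem_alt n1 n2 n3⟩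
  simp only [Finset.mem_product, Finset.mem_singleton, Finset.mem_univ, and_true] at hx hy hz
  have key : ∀ w, f (cyc x y z w) = f w := by
    intro w
    by_cases e : cyc x y z w = w
    · rw [e]
    have h1 := support_cyc_subset x y z (Perm.mem_support.2 e)
    have h2 := support_cyc_subset x y z (Perm.apply_mem_support.2 (Perm.mem_support.2 e))
    simp only [Finset.mem_insert, Finset.mem_singleton] at h1 h2
    rcases h1 with e1 | e1 | e1 <;> rcases h2 with e2 | e2 | e2 <;> rw [e2] <;>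
      simp [f, e1, hx, hy, hz]
  rw [key, key]

end CfsgLib.ThreeCycles
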